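/-
Geometric subgroups of special unitary groups of dimension at least ten, stated for the standard form.
-/
import Cfsg.Agent.Lib.Transvec.HermStd
import Cfsg.Agent.Lib.Transvec.HermStab
import Cfsg.Agent.Lib.Transvec.HermWreath
import Cfsg.Agent.Lib.Transvec.HermFrameMax
import Cfsg.Agent.Lib.Transvec.HermPairMax
import Cfsg.Agent.Lib.Transvec.HermConj
import Cfsg.Agent.Lib.Transvec.HermSubfieldMax
import Cfsg.Agent.Lib.Transvec.HermSymp
import Cfsg.Agent.Lib.Transvec.HermOrth
import Cfsg.Agent.Lib.UnitaryFieldExt.Sub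
import Cfsg.Agent.Lib.TensorMax.UMain

set_option autoImplicit false
open Cfsg

namespace Cfsg.Agent.SULists

variable {F : Type*} [Field F] [Fintype F] {n q : ℕ}

/-- Stabilisers of totally isotropic subspaces. -/
theorem singular (hF : Fintype.card F = q ^ 2) (hn : 6 ≤ n) {W : Submodule F (Fin n → F)} (hW0 : W ≠ ⊥)
    (hW : Geo.IsTotallySingularFor (hermForm n F q) W) :
    Geo.IsMaximalIn (GU n F q ⊓ Geo.specialLinear (Fin n) F)
      (Geo.subspaceStabilizer W ⊓ (GU n F q ⊓ Geo.specialLinear (Fin n) F)) := by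
  obtain ⟨σ, -, -, hf⟩ := Transvec.Herm.exists_unitary_std (n := n) hF (by omega)
  exact Transvec.Herm.stab_singular_maximal hf (by simp; omega) hW0 hW

/-- Stabilisers of small non-degenerate subspaces. -/
theorem nondeg (hF : Fintype.card F = q ^ 2) (hn : 6 ≤ n) {W : Submodule F (Fin n → F)} (hW0 : W ≠ ⊥)
    (hW : Geo.IsNondegenerateOn (hermForm n F q) W) (hdim : 2 * Module.finrank F W < n) :
    Geo.IsMaximalIn (GU n F q ⊓ Geo.specialLinear (Fin n) F)
      (Geo.subspaceStabilizer W ⊓ (GU n F q ⊓ Geo.specialLinear (Fin n) F)) := by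
  obtain ⟨σ, -, -, hf⟩ := Transvec.Herm.exists_unitary_std (n := n) hF (by omega)
  exact Transvec.Herm.stab_nondeg_maximal hf (by simp; omega) hW0 hW (by simpa using hdim)

/-- Stabilisers of orthogonal decompositions. -/
theorem wreath (hF : Fintype.card F = q ^ 2) (hn : 10 ≤ n) {t k : ℕ} {D : Fin t → Submodule F (Fin n → F)}
    (hD : Geo.IsNondegenerateMDecomposition (hermForm n F q) k D) (hex : ¬ (k = 2 ∧ q = 2)) :
    Geo.IsMaximalIn (GU n F q ⊓ Geo.specialLinear (Fin n) F)
      (Geo.decompositionStabilizer D ⊓ (GU n F q ⊓ Geo.specialLinear (Fin n) F)) := by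
  obtain ⟨σ, hσ, -, hf⟩ := Transvec.Herm.exists_unitary_std (n := n) hF (by omega)
  rcases Nat.lt_or_ge k 2 with hk | hk
  · have hk1 : k = 1 := by have := hD.decomp.pos; omega
    subst hk1
    have ht := Transvec.Herm.card_eq_mul hD
    rw [Fintype.card_fin, mul_one] at ht
    exact Transvec.Herm.frame_maximal hf hD (by omega)
  · refine Transvec.Herm.wreath_two_maximal hf hD hk (by rw [Fintype.card_fin]; omega) ?_
    by_cases h : k = 2
    · refine Or.inr fun hq2 => hex ⟨h, ?_⟩
      have h4 := Transvec.Herm.card_eq_sq hf.ne_refl hf.involutive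
      rw [hq2, Nat.card_eq_fintype_card, hF] at h4
      exact Nat.pow_left_injective (by norm_num) h4
    · exact Or.inl h

/-- Stabilisers of pairs of complementary totally isotropic subspaces. -/
theorem pair (hF : Fintype.card F = q ^ 2) (hn : 6 ≤ n) {k : ℕ} (hk : 2 * k = n)
    {D : Fin 2 → Submodule F (Fin n → F)} (hD : Geo.IsMDecomposition k D)
    (hts : ∀ i, Geo.IsTotallySingularFor (hermForm n F q) (D i)) :
    Geo.IsMaximalIn (GU n F q ⊓ Geo.specialLinear (Fin n) F)
      (Geo.decompositionStabilizer D ⊓ (GU n F q ⊓ Geo.specialLinear (Fin n) F)) := by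
  obtain ⟨σ, hσ, -, hf⟩ := Cfsg.Agent.Transvec.Herm.exists_unitary_std (n := n) hF (by omega)
  have hne : ∀ i : Fin 2, i = 0 ∨ i = 1 := fun i => by fin_cases i <;> simp
  have hc : IsCompl (D 0) (D 1) := by
    refine ⟨hD.indep.pairwiseDisjoint (by decide), codisjoint_iff.2 (eq_top_iff.2 ?_)⟩
    rw [← hD.iSup_eq_top]
    refine iSup_le fun i => ?_
    rcases hne i with rfl | rfl
    · exact le_sup_left
    · exact le_sup_right
  have hk5 : ∀ i, 3 ≤ Module.finrank F (D i) := fun i => by rw [hD.finrank_eq]; omega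
  refine Cfsg.Agent.Transvec.Herm.pair_stab_maximal hf (fun u hu v hv => hts 0 u hu v hv)
    (fun u hu v hv => hts 1 u hu v hv) hc (hk5 0) (hk5 1) fun g => ?_
  have key : ∀ a b : Fin 2, (D a).map (Matrix.toLin' (g : Matrix (Fin n) (Fin n) F)) = D b ↔
      ∀ u ∈ D a, Cfsg.Agent.Transvec.mv g u ∈ D b := by
    intro a b
    constructor
    · intro h u hu
      rw [← h]
      exact ⟨u, hu, Matrix.toLin'_apply _ _⟩
    · intro h
      have hinj : Function.Injective (Matrix.toLin' (g : Matrix (Fin n) (Fin n) F)) := fun x y e =>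
        Cfsg.Agent.Transvec.mv_inj g (by rwa [Matrix.toLin'_apply, Matrix.toLin'_apply] at e)
      refine Submodule.eq_of_le_of_finrank_eq ?_ ?_
      · rintro _ ⟨u, hu, rfl⟩
        rw [Matrix.toLin'_apply]
        exact h u hu
      · rw [← LinearEquiv.finrank_eq (Submodule.equivMapOfInjective _ hinj (D a)), hD.finrank_eq, hD.finrank_eq]
  constructor
  · rintro ⟨⟨π, hπ⟩, hg⟩
    refine ⟨hg, ?_⟩
    rcases hne (π 0) with h0 | h0 <;> rcases hne (π 1) with h1 | h1
    · exact absurd (π.injective (h0.trans h1.symm)) (by decide)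
    · exact Or.inl ⟨(key 0 0).1 ((hπ 0).trans (congrArg D h0)), (key 1 1).1 ((hπ 1).trans (congrArg D h1))⟩
    · exact Or.inr ⟨(key 0 1).1 ((hπ 0).trans (congrArg D h0)), (key 1 0).1 ((hπ 1).trans (congrArg D h1))⟩
    · exact absurd (π.injective (h0.trans h1.symm)) (by decide)
  · rintro ⟨hg, ⟨h0, h1⟩ | ⟨h0, h1⟩⟩
    · refine ⟨⟨1, fun i => ?_⟩, hg⟩
      rcases hne i with rfl | rfl
      · exact (key 0 0).2 h0
      · exact (key 1 1).2 h1
    · refine ⟨⟨Equiv.swap 0 1, fun i => ?_⟩, hg⟩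
      rcases hne i with rfl | rfl
      · rw [Equiv.swap_apply_left]; exact (key 0 1).2 h0
      · rw [Equiv.swap_apply_right]; exact (key 1 0).2 h1

/-- Normalisers of field subalgebras of prime degree. -/
theorem fieldExt (hF : Fintype.card F = q ^ 2) (hn : 6 ≤ n) {r d : ℕ} (hr : r.Prime) (hrd : n = r * d)
    (hd : Even d) (hcond : 4 ≤ d ∨ 5 ≤ r) (hd2 : 2 ≤ d) (hr3 : 3 ≤ r)
    {K : Subalgebra F (Matrix (Fin n) (Fin n) F)} (hK : Geo.IsFieldSubalgebra r K)
    (hadj : Geo.IsAdjointClosedFor (hermForm n F q) K) :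
    Geo.IsMaximalIn (GU n F q ⊓ Geo.specialLinear (Fin n) F)
      (Geo.subalgebraNormalizer K ⊓ (GU n F q ⊓ Geo.specialLinear (Fin n) F)) := by
  obtain ⟨σ, -, -, hf⟩ := Transvec.Herm.exists_unitary_std (n := n) hF (by omega)
  exact UFE.subalgebra_maximal hf hr (by simpa using hrd) hd (hcond.imp_right Or.inl) hd2 hr3 hK hadj

/-- Subfield groups of odd prime index. -/
theorem subfieldOdd (hF : Fintype.card F = q ^ 2) (hn : 6 ≤ n) {F₀ : Subfield F} {r : ℕ} (hr : r.Prime)
    (hro : Odd r) (hcard : Fintype.card F = Nat.card F₀ ^ r) {P : Matrix.GeneralLinearGroup (Fin n) F}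
    (hP : Geo.IsFormRationalStructure (hermForm n F q) F₀ 1 P) :
    Geo.IsMaximalIn (GU n F q ⊓ Geo.specialLinear (Fin n) F)
      (Geo.subfieldSubgroup F₀ P ⊓ (GU n F q ⊓ Geo.specialLinear (Fin n) F)) := by
  obtain ⟨σ, hσ, -, hf⟩ := Transvec.Herm.exists_unitary_std (n := n) hF (by omega)
  have hr2 : r ≠ 2 := fun h => by
    rw [h] at hro
    exact absurd hro (by decide)
  exact Transvec.Herm.maximal_of_pull P F₀
    (Transvec.Herm.subfield_odd_maximal (Transvec.Herm.pull_isUnitary hf P) hr hr2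
      hcard (by simp; omega) (fun u v hu hv => by simpa using hP u v hu hv))

/-- Symplectic subfield groups. -/
theorem symp (hF : Fintype.card F = q ^ 2) (hn : 6 ≤ n) {F₀ : Subfield F}
    {P : Matrix.GeneralLinearGroup (Fin n) F} {ζ : F} (hcard : Fintype.card F = Nat.card F₀ ^ 2)
    (hζ0 : ζ ≠ 0) (hζ : ζ + ζ ^ q = 0) (hP : Geo.IsFormRationalStructure (hermForm n F q) F₀ ζ P)
    (halt : ∀ u : Fin n → F, (∀ i, u i ∈ F₀) → hermForm n F q (Matrix.mulVec (P : Matrix (Fin n) (Fin n) F) u)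
      (Matrix.mulVec (P : Matrix (Fin n) (Fin n) F) u) = 0) :
    Geo.IsMaximalIn (GU n F q ⊓ Geo.specialLinear (Fin n) F)
      (Geo.subfieldSubgroup F₀ P ⊓ (GU n F q ⊓ Geo.specialLinear (Fin n) F)) := by
  obtain ⟨σ, hσ, -, hf⟩ := Transvec.Herm.exists_unitary_std (n := n) hF (by omega)
  refine Transvec.Herm.maximal_of_pull P F₀
    (Transvec.Herm.sp_in_su_maximal (Transvec.Herm.pull_isUnitary hf P) (by simp; omega)
      hcard hζ0 (by rw [hσ]; linear_combination hζ) (fun u v hu hv => hP u v hu hv) fun u hu => halt u hu)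

/-- Orthogonal subfield groups. -/
theorem orth (hF : Fintype.card F = q ^ 2) (hn : 6 ≤ n) (hodd : Odd q) {F₀ : Subfield F}
    {P : Matrix.GeneralLinearGroup (Fin n) F} (hcard : Fintype.card F = Nat.card F₀ ^ 2)
    (hP : Geo.IsFormRationalStructure (hermForm n F q) F₀ 1 P) :
    Geo.IsMaximalIn (GU n F q ⊓ Geo.specialLinear (Fin n) F)
      (Geo.subfieldSubgroup F₀ P ⊓ (GU n F q ⊓ Geo.specialLinear (Fin n) F)) := by
  obtain ⟨σ, hσ, -, hf⟩ := Transvec.Herm.exists_unitary_std (n := n) hF (by omega)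
  have h2 : (2 : F) ≠ 0 := by
    intro h
    have h1 : ringChar F = 2 := by
      have := (ringChar.spec F 2).1 (by exact_mod_cast h)
      rcases (Nat.dvd_prime Nat.prime_two).1 this with h' | h'
      · exact absurd h' (CharP.ringChar_ne_one)
      · exact h'
    have := FiniteField.even_card_iff_char_two.1 h1
    rw [hF] at this
    rcases hodd with ⟨k, rfl⟩
    ring_nf at this
    omega
  exact Transvec.Herm.maximal_of_pull P F₀
    (Transvec.Herm.orth_in_su_maximal (Transvec.Herm.pull_isUnitary hf P) (by simp; omega)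
      hcard h2 (fun u v hu hv => by simpa using hP u v hu hv))

end Cfsg.Agent.SULists
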